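import Cfsg.Agent.Lib.Helper6.Ls.Defs
import Cfsg.Agent.Lib.Helper36.ReeMul2
import Cfsg.Agent.Lib.Helper36.ReeOdd

set_option autoImplicit false

/-!
# `Rm` mini-hive (S2343): the smallest degree of the small Ree groups `²G₂(q)` — definitions

`RG K m = ↥(twistedG2 K (3^m))`; `xg m (t,u,v)` is helper36's element `u(t,u,v)` of `U¹`, `hg hK s` is the torus
element `h(s)`.  `Zr` is the centre `{x(0,0,v)}` of `U¹`, `Qr = {x(0,u,v)}` its (abelian) derived group.
-/

namespace Cfsg.Agent.Lib.Helper6.Rm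

open Cfsg Cfsg.Lie Cfsg.Agent.Lib.Helper36

/-- the small Ree group as a type. -/
abbrev RG (K : Type*) [Field K] (m : ℕ) : Type _ := ↥(twistedG2 K (3 ^ m))

section
variable {K : Type*} [Field K] [Fintype K] {m : ℕ}

/-- helper36's `u(t,u,v)` as an element of the Ree group. -/
noncomputable def xg (m : ℕ) (p : K × K × K) : RG K m := ⟨reeUel m p, reeUel_mem p⟩

/-- helper36's torus element `h(s)` as an element of the Ree group. -/
noncomputable def hg (hK : Fintype.card K = 3 ^ (2 * m + 1)) (s : Kˣ) : RG K m :=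
  ⟨reeHm (3 ^ m) s, reeHm_mem hK s⟩

theorem coe_xg (p : K × K × K) : ((xg m p : RG K m) : GL chevG2.Idx K) = reeUel m p := rfl

theorem coe_hg (hK : Fintype.card K = 3 ^ (2 * m + 1)) (s : Kˣ) :
    ((hg hK s : RG K m) : GL chevG2.Idx K) = reeHm (3 ^ m) s := rfl

/-- the multiplication of `U¹` (helper36's `reeUel_mul`) in the Ree group. -/
theorem xg_mul (hK : Fintype.card K = 3 ^ (2 * m + 1)) (t u v t' u' v' : K) :
    (xg m (t, u, v) : RG K m) * xg m (t', u', v') =
      xg m (t + t', u + u' - t' ^ (3 ^ m * 3) * t,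
        v + v' - t' * u - t' ^ (3 ^ m * 3) * t ^ 2 + t' ^ (3 ^ m * 3) * t * t') :=
  Subtype.ext (reeUel_mul hK t u v t' u' v')

theorem xg_zero : (xg m ((0, 0, 0) : K × K × K) : RG K m) = 1 := Subtype.ext ree_one_eq

theorem xg_inj (p p' : K × K × K) (h : (xg m p : RG K m) = xg m p') : p = p' :=
  reeUel_inj p p' (congrArg Subtype.val h)

/-- the action of the torus on `U¹` (helper36's `ree_conj`) in the Ree group. -/
theorem hg_conj (hK : Fintype.card K = 3 ^ (2 * m + 1)) (s : Kˣ) (p : K × K × K) :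
    (hg hK s : RG K m) * xg m p * (hg hK s)⁻¹ =
      xg m (torChi (s ^ 3 ^ m) s 6 * p.1, torChi (s ^ 3 ^ m) s 10 * p.2.1, torChi (s ^ 3 ^ m) s 11 * p.2.2) :=
  Subtype.ext (ree_conj hK s p)

theorem hg_mul (hK : Fintype.card K = 3 ^ (2 * m + 1)) (s s' : Kˣ) :
    (hg hK (s * s') : RG K m) = hg hK s * hg hK s' :=
  Subtype.ext (map_mul (reeHm (3 ^ m)) s s')

theorem hg_one (hK : Fintype.card K = 3 ^ (2 * m + 1)) : (hg hK 1 : RG K m) = 1 :=
  Subtype.ext (map_one (reeHm (3 ^ m)))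

/-- the centre `{x(0,0,v)}` of `U¹`. -/
def ZrSet (K : Type*) [Field K] [Fintype K] (m : ℕ) : Set (RG K m) := {g | ∃ v : K, g = xg m (0, 0, v)}

/-- the derived group `{x(0,u,v)}` of `U¹`. -/
def QrSet (K : Type*) [Field K] [Fintype K] (m : ℕ) : Set (RG K m) := {g | ∃ u v : K, g = xg m (0, u, v)}

/-- the centre of `U¹` as a subgroup (closure of `ZrSet`; leaf `RM-SUB` shows it is the set). -/
def Zr (K : Type*) [Field K] [Fintype K] (m : ℕ) : Subgroup (RG K m) := Subgroup.closure (ZrSet K m)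

/-- the derived group of `U¹` as a subgroup (closure of `QrSet`; leaf `RM-SUB` shows it is the set). -/
def Qr (K : Type*) [Field K] [Fintype K] (m : ℕ) : Subgroup (RG K m) := Subgroup.closure (QrSet K m)

end

end Cfsg.Agent.Lib.Helper6.Rm
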