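import Cfsg.Agent.Lib.Helper6.Rm.Sub
import Cfsg.Agent.S1073

set_option autoImplicit false

namespace Cfsg.Agent.Lib.Helper6.Rm

open Module Cfsg Cfsg.Lie Cfsg.Agent.Lib.Helper36 Cfsg.Agent.Lib.Helper6.Ls

/-- a trivial representation of degree at least two is not irreducible. -/
lemma rmnt_not_irreducible_of_trivial {H : Type*} [Group H] {k : ℕ} (hk : 2 ≤ k)
    (ρ : Representation ℂ H (Fin k → ℂ)) (htriv : ∀ g, ρ g = 1) : ¬ ρ.IsIrreducible := by
  intro hirr
  obtain ⟨i0, hi0⟩ : ∃ i0 : Fin k, i0 = ⟨0, by omega⟩ := ⟨_, rfl⟩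
  obtain ⟨i1, hi1⟩ : ∃ i1 : Fin k, i1 = ⟨1, by omega⟩ := ⟨_, rfl⟩
  have hne : i1 ≠ i0 := by
    rw [hi0, hi1]
    intro h
    have := congrArg Fin.val h
    simp at this
  obtain ⟨S, hS⟩ : ∃ S : Subrepresentation ρ,
      S.toSubmodule = Submodule.span ℂ {(Pi.single i0 1 : Fin k → ℂ)} := by
    refine ⟨⟨Submodule.span ℂ {(Pi.single i0 1 : Fin k → ℂ)}, ?_⟩, rfl⟩
    intro g v hv
    rw [htriv g]
    exact hv
  have hmem : (Pi.single i0 1 : Fin k → ℂ) ∈ S.toSubmodule := by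
    rw [hS]
    exact Submodule.subset_span rfl
  rcases hirr.eq_bot_or_eq_top S with h | h
  · have h1 : S.toSubmodule = ⊥ := congrArg Subrepresentation.toSubmodule h
    rw [h1, Submodule.mem_bot] at hmem
    have := congrFun hmem i0
    simp at this
  · have h1 : S.toSubmodule = ⊤ := congrArg Subrepresentation.toSubmodule h
    have h2 : (Pi.single i1 1 : Fin k → ℂ) ∈ S.toSubmodule := by rw [h1]; trivial
    rw [hS, Submodule.mem_span_singleton] at h2
    obtain ⟨a, ha⟩ := h2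
    have := congrFun ha i1
    simp [hne] at this

variable {K : Type*} [Field K] [Fintype K] {m : ℕ}

/-- RM-NT -/
theorem actsNontriv_Zr (hm : 1 ≤ m) (hK : Fintype.card K = 3 ^ (2 * m + 1)) (k : ℕ) (hk : 2 ≤ k)
    (ρ : Representation ℂ (RG K m) (Fin k → ℂ)) (hirr : ρ.IsIrreducible) : ActsNontriv ρ (Zr K m) ⊤ := by
  by_contra hcon
  have hall : ∀ z ∈ Zr K m, ρ z = 1 := by
    intro z hz
    apply LinearMap.ext
    intro w
    by_contra hne
    exact hcon ⟨z, hz, w, trivial, hne⟩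
  have hsimple := (Cfsg.Agent.S1073.result hm hK).1
  have hker : (ρ : RG K m →* _).ker = ⊤ := by
    rcases (MonoidHom.normal_ker (ρ : RG K m →* _)).eq_bot_or_eq_top with h | h
    · exfalso
      have h1 : (xg m (0, 0, 1) : RG K m) ∈ (ρ : RG K m →* _).ker :=
        hall _ ((mem_Zr_iff hK _).2 ⟨1, rfl⟩)
      rw [h, Subgroup.mem_bot, ← xg_zero] at h1
      have := xg_inj _ _ h1
      have h2 : (1 : K) = 0 := congrArg (fun q : K × K × K => q.2.2) this
      exact one_ne_zero h2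
    · exact h
  apply rmnt_not_irreducible_of_trivial hk ρ _ hirr
  intro g
  have h1 : g ∈ (ρ : RG K m →* _).ker := by rw [hker]; trivial
  exact h1

end Cfsg.Agent.Lib.Helper6.Rm
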