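import Cfsg.Agent.Lib.Helper6.Rm.Tor
import Cfsg.Agent.Lib.Helper35.RmHEIS
import Cfsg.Agent.Lib.Helper6.Rm.NT
import Cfsg.Agent.Lib.Helper53.RmINVCONJ
import Cfsg.Agent.Lib.Helper74.RmKL4
import Cfsg.Agent.Lib.Helper74.RmTR0
import Cfsg.Agent.Lib.Helper70.LsABNT
import Cfsg.Agent.Lib.Helper24.LsABTOR
import Cfsg.Agent.Lib.Helper70.LsABISOT
import Cfsg.Agent.Lib.Helper88.LsABHEIS
import Cfsg.Agent.S1152
import Cfsg.Agent.S1157

set_option autoImplicit false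

/-! # `Rm` mini-hive (helper6): S2343 — assembly.

Every irreducible complex representation of degree `≥ 2` of the small Ree group `²G₂(q)`, `q = 3^(2m+1)`, `m ≥ 1`, has
degree `≥ q² - q + 1`: the Landazuri–Seitz bound `dim C_V(Z) + (q-1) q ≤ k` (abstract `lower'`), and `k = q(q-1)` is
excluded because then `tr ρ(t) = 0` for every involution `t`, so `4 ∣ k` by a four-group, but `q(q-1) ≡ 2 (mod 4)`. -/

namespace Cfsg.Agent.Lib.Helper6.Rm

open Module Cfsg Cfsg.Lie Cfsg.Agent.Lib.Helper36 Cfsg.Agent.Lib.Helper6.Ls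

/-! ## Assembly (helper6) -/
section assembly

/-- copy of `Ls.lower` (same proof), to keep the import closure small. -/
theorem lower' {G : Type*} [Group G] [Finite G] {W : Type*} [AddCommGroup W] [Module ℂ W]
    [FiniteDimensional ℂ W] (ρ : Representation ℂ G W) (U : Submodule ℂ W) (Z Q1 : Subgroup G) (hZQ : Z ≤ Q1)
    (hQ1 : ∀ a ∈ Q1, ∀ b ∈ Q1, a * b = b * a)
    {ι : Type*} [Fintype ι] (y : ι → G) (hyZ : ∀ i, ∀ z ∈ Z, y i * z = z * y i)
    (hy : ∀ i, ∀ a ∈ Q1, (y i)⁻¹ * a * y i * a⁻¹ ∈ Z)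
    (hsep : ∀ i j, i ≠ j → ∀ z ∈ Z, ∃ a ∈ Q1, (y i)⁻¹ * a * y i * ((y j)⁻¹ * a * y j)⁻¹ = z)
    {κ : Type*} [Fintype κ] (t : κ → G)
    (htZ : ∀ k, ∀ z ∈ Z, (t k)⁻¹ * z * t k ∈ Z)
    (hfree : ∀ k k', k ≠ k' → ∀ z' ∈ Z, ∃ z ∈ Z, (t k)⁻¹ * z * t k * ((t k')⁻¹ * z * t k')⁻¹ = z')
    (hUQ : ∀ a ∈ Q1, Stable ρ a U) (hUy : ∀ i, Stable ρ (y i) U) (hUt : ∀ k, Stable ρ (t k) U)
    (hnt : ActsNontriv ρ Z U) :
    finrank ℂ (fixIn ρ Z U) + Fintype.card κ * Fintype.card ι ≤ finrank ℂ U := by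
  obtain ⟨lam, hlam, hne⟩ := exists_eig_of_actsNontriv ρ Z
    (fun a ha b hb => hQ1 a (hZQ ha) b (hZQ hb)) U (fun z hz => hUQ z (hZQ hz)) hnt
  obtain ⟨lams, hdist, hnt', hne'⟩ := torus_eigs ρ U Z t htZ hfree hUt lam hlam hne
  have h1 := sum_finrank_eigIn_le ρ Z U lams hdist hnt'
  have h2 : Fintype.card κ * Fintype.card ι ≤ ∑ k, finrank ℂ (eigIn ρ Z (lams k) U) := by
    calc Fintype.card κ * Fintype.card ι = ∑ _k : κ, Fintype.card ι := by
          rw [Finset.sum_const, Finset.card_univ, smul_eq_mul]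
      _ ≤ _ := Finset.sum_le_sum (fun k _ =>
          heis_bound ρ U Z Q1 hZQ hQ1 y hyZ hy hsep hUQ hUy (lams k) (hnt' k) (hne' k))
  omega

theorem trace_conj_eq {G : Type*} [Group G] {W : Type*} [AddCommGroup W] [Module ℂ W]
    (ρ : Representation ℂ G W) (g t : G) :
    LinearMap.trace ℂ W (ρ (g * t * g⁻¹)) = LinearMap.trace ℂ W (ρ t) := by
  have h : ρ (g * t * g⁻¹) = ρ g * (ρ t * ρ g⁻¹) := by rw [mul_assoc, map_mul, map_mul]
  rw [h, LinearMap.trace_mul_comm, mul_assoc, ← map_mul, inv_mul_cancel, map_one, mul_one]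

variable {K : Type*} [Field K] [Fintype K] {m : ℕ}

theorem main (hm : 1 ≤ m) (hK : Fintype.card K = 3 ^ (2 * m + 1)) (k : ℕ)
    (ρ : Representation ℂ (RG K m) (Fin k → ℂ)) (hirr : ρ.IsIrreducible) (hk : 2 ≤ k) :
    (3 ^ (2 * m + 1)) ^ 2 - 3 ^ (2 * m + 1) + 1 ≤ k := by
  classical
  have hfinG : Finite (RG K m) := inferInstance
  have hnt := actsNontriv_Zr hm hK k hk ρ hirr
  obtain ⟨h1, h2, h3⟩ := heis_data (m := m) hK
  obtain ⟨h4, h5⟩ := torus_data (m := m) hK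
  have hlow := lower' ρ ⊤ (Zr K m) (Qr K m) Zr_le_Qr (Qr_comm hK) (fun t : K => (xg m (t, 0, 0) : RG K m))
    h1 h2 h3 (fun s : Kˣ => (hg hK s : RG K m)) h4 h5 (fun _ _ _ _ => trivial) (fun _ _ _ => trivial)
    (fun _ _ _ => trivial) hnt
  rw [finrank_top, Module.finrank_fin_fun, Fintype.card_units, hK] at hlow
  obtain ⟨hmod, hrew⟩ := rm_arith m
  rw [hrew]
  by_contra hcon
  have hkq : k = (3 ^ (2 * m + 1) - 1) * 3 ^ (2 * m + 1) := by omega
  have hfix0 : finrank ℂ (fixIn ρ (Zr K m) ⊤) = 0 := by omega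
  have hfix : fixIn ρ (Zr K m) ⊤ = ⊥ := Submodule.finrank_eq_zero.mp hfix0
  obtain ⟨ht2, htd, htc⟩ := t0_data (m := m) hK
  have htr : LinearMap.trace ℂ _ (ρ (hg hK (-1))) = 0 :=
    trace_eq_zero_of_fixIn_eq_bot ρ (Zr K m) (hg hK (-1)) (fun z hz => ⟨z, htc z hz⟩) hfix
  have ht1 : (hg hK (-1) : RG K m) ≠ 1 := by
    intro h
    rw [h, orderOf_one] at ht2
    omega
  have htsq : (hg hK (-1) : RG K m) * hg hK (-1) = 1 := by
    rw [← pow_two, ← ht2]
    exact pow_orderOf_eq_one _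
  obtain ⟨S⟩ : Nonempty (Sylow 2 (RG K m)) := inferInstance
  obtain ⟨-, hS⟩ := Cfsg.Agent.S1152.result hK (hg hK (-1)) htd ht1 htsq
  obtain ⟨hS8, hexp⟩ := hS S
  obtain ⟨hC, hN⟩ := Cfsg.Agent.S1157.result hm hK S
  have hinv : ∀ a : RG K m, a ∈ S → a ≠ 1 → LinearMap.trace ℂ _ (ρ a) = 0 := by
    intro a haS ha1
    have hao : orderOf a = 2 := orderOf_eq_prime (by rw [pow_two]; exact hexp a haS) ha1
    obtain ⟨g, hg'⟩ := involutions_conj_of_sylow S hS8 hexp hC hN (hg hK (-1)) a ht2 hao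
    rw [← hg', trace_conj_eq]
    exact htr
  -- three distinct elements of `S`
  have hcard : 2 < Fintype.card (S : Subgroup (RG K m)) := by
    rw [← Nat.card_eq_fintype_card, hS8]; norm_num
  obtain ⟨x, y, z, hxy, hxz, hyz⟩ := Fintype.two_lt_card_iff.mp hcard
  obtain ⟨a, b, haS, hbS, ha1, hb1, hab⟩ : ∃ a b : RG K m, a ∈ S ∧ b ∈ S ∧ a ≠ 1 ∧ b ≠ 1 ∧ a ≠ b := by
    by_cases hx : x = 1
    · refine ⟨y, z, y.2, z.2, ?_, ?_, ?_⟩
      · intro h; exact hxy (hx.trans (Subtype.ext h).symm)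
      · intro h; exact hxz (hx.trans (Subtype.ext h).symm)
      · intro h; exact hyz (Subtype.ext h)
    · by_cases hy : y = 1
      · refine ⟨x, z, x.2, z.2, ?_, ?_, ?_⟩
        · intro h; exact hx (Subtype.ext h)
        · intro h; exact hyz (hy.trans (Subtype.ext h).symm)
        · intro h; exact hxz (Subtype.ext h)
      · refine ⟨x, y, x.2, y.2, ?_, ?_, ?_⟩
        · intro h; exact hx (Subtype.ext h)
        · intro h; exact hy (Subtype.ext h)
        · intro h; exact hxy (Subtype.ext h)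
  have habS : a * b ∈ S := mul_mem haS hbS
  have haa := hexp a haS
  have hbb := hexp b hbS
  have hcomm : a * b = b * a := by
    have h := hexp (a * b) habS
    have h' : b * a = a * (a * b * (a * b)) * b := by
      calc b * a = (a * a) * (b * a) * (b * b) := by rw [haa, hbb, one_mul, mul_one]
        _ = a * (a * b * (a * b)) * b := by group
    rw [h', h, mul_one]
  have hab1 : a * b ≠ 1 := by
    intro h
    apply hab
    have h1 : a = b⁻¹ := eq_inv_of_mul_eq_one_left h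
    rw [h1]
    exact inv_eq_of_mul_eq_one_left hbb
  have h4 := four_dvd_finrank_of_klein ρ a b haa hbb hcomm (hinv a haS ha1) (hinv b hbS hb1)
    (hinv (a * b) habS hab1)
  rw [Module.finrank_fin_fun, hkq] at h4
  obtain ⟨c, hc⟩ := h4
  omega

end assembly

end Cfsg.Agent.Lib.Helper6.Rm
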