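import Cfsg.Agent.Lib.Helper6.Rm.Defs

set_option autoImplicit false

/-! # `Rm` mini-hive (S2343): leaf RM-SUB — `Zr` and `Qr` are the sets `{x(0,0,v)}` and `{x(0,u,v)}` -/

namespace Cfsg.Agent.Lib.Helper6.Rm

open Cfsg Cfsg.Lie Cfsg.Agent.Lib.Helper36

variable {K : Type*} [Field K] [Fintype K] {m : ℕ}

/-- `x(0,u,v) x(0,u',v') = x(0,u+u',v+v')`. -/
theorem rmsub_qq (hK : Fintype.card K = 3 ^ (2 * m + 1)) (u v u' v' : K) :
    (xg m (0, u, v) : RG K m) * xg m (0, u', v') = xg m (0, u + u', v + v') := by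
  rw [xg_mul hK]
  congr 1
  refine Prod.ext ?_ (Prod.ext ?_ ?_)
  · show (0 : K) + 0 = 0
    ring
  · show u + u' - (0 : K) ^ (3 ^ m * 3) * 0 = u + u'
    ring
  · show v + v' - 0 * u - (0 : K) ^ (3 ^ m * 3) * 0 ^ 2 + (0 : K) ^ (3 ^ m * 3) * 0 * 0 = v + v'
    ring

/-- `x(t,u,v) x(0,0,c) = x(t,u,v+c)`. -/
theorem rmsub_xz (hK : Fintype.card K = 3 ^ (2 * m + 1)) (t u v c : K) :
    (xg m (t, u, v) : RG K m) * xg m (0, 0, c) = xg m (t, u, v + c) := by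
  rw [xg_mul hK]
  have h0 : (0 : K) ^ (3 ^ m * 3) = 0 := zero_pow (by positivity)
  congr 1
  refine Prod.ext ?_ (Prod.ext ?_ ?_)
  · show t + 0 = t
    ring
  · show u + 0 - (0 : K) ^ (3 ^ m * 3) * t = u
    rw [h0]; ring
  · show v + c - 0 * u - (0 : K) ^ (3 ^ m * 3) * t ^ 2 + (0 : K) ^ (3 ^ m * 3) * t * 0 = v + c
    rw [h0]; ring

/-- `x(0,0,c) x(t,u,v) = x(t,u,v+c)`. -/
theorem rmsub_zx (hK : Fintype.card K = 3 ^ (2 * m + 1)) (t u v c : K) :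
    (xg m (0, 0, c) : RG K m) * xg m (t, u, v) = xg m (t, u, v + c) := by
  rw [xg_mul hK]
  congr 1
  refine Prod.ext ?_ (Prod.ext ?_ ?_)
  · show 0 + t = t
    ring
  · show 0 + u - t ^ (3 ^ m * 3) * 0 = u
    ring
  · show c + v - t * 0 - t ^ (3 ^ m * 3) * 0 ^ 2 + t ^ (3 ^ m * 3) * 0 * t = v + c
    ring

theorem rmsub_q_inv (hK : Fintype.card K = 3 ^ (2 * m + 1)) (u v : K) :
    (xg m (0, u, v) : RG K m)⁻¹ = xg m (0, -u, -v) := by
  apply inv_eq_of_mul_eq_one_right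
  rw [rmsub_qq hK, add_neg_cancel, add_neg_cancel, xg_zero]

/-- RM-SUB (2): `Qr` is the set `{x(0,u,v)}`. -/
theorem mem_Qr_iff (hK : Fintype.card K = 3 ^ (2 * m + 1)) (g : RG K m) :
    g ∈ Qr K m ↔ ∃ u v : K, g = xg m (0, u, v) := by
  constructor
  · intro hg
    unfold Qr at hg
    induction hg using Subgroup.closure_induction with
    | mem x hx => exact hx
    | one => exact ⟨0, 0, xg_zero.symm⟩
    | mul x y _ _ hx hy =>
      obtain ⟨u, v, rfl⟩ := hx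
      obtain ⟨u', v', rfl⟩ := hy
      exact ⟨u + u', v + v', rmsub_qq hK u v u' v'⟩
    | inv x _ hx =>
      obtain ⟨u, v, rfl⟩ := hx
      exact ⟨-u, -v, rmsub_q_inv hK u v⟩
  · rintro ⟨u, v, rfl⟩
    exact Subgroup.subset_closure ⟨u, v, rfl⟩

/-- RM-SUB (1): `Zr` is the set `{x(0,0,v)}`. -/
theorem mem_Zr_iff (hK : Fintype.card K = 3 ^ (2 * m + 1)) (g : RG K m) :
    g ∈ Zr K m ↔ ∃ v : K, g = xg m (0, 0, v) := by
  constructor
  · intro hg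
    unfold Zr at hg
    induction hg using Subgroup.closure_induction with
    | mem x hx => exact hx
    | one => exact ⟨0, xg_zero.symm⟩
    | mul x y _ _ hx hy =>
      obtain ⟨v, rfl⟩ := hx
      obtain ⟨v', rfl⟩ := hy
      refine ⟨v + v', ?_⟩
      rw [rmsub_qq hK, add_zero]
    | inv x _ hx =>
      obtain ⟨v, rfl⟩ := hx
      refine ⟨-v, ?_⟩
      rw [rmsub_q_inv hK, neg_zero]
  · rintro ⟨v, rfl⟩
    exact Subgroup.subset_closure ⟨v, rfl⟩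

/-- RM-SUB (3). -/
theorem Zr_le_Qr : Zr K m ≤ Qr K m := by
  apply Subgroup.closure_mono
  rintro g ⟨v, rfl⟩
  exact ⟨0, v, rfl⟩

/-- RM-SUB (4): `Qr` is abelian. -/
theorem Qr_comm (hK : Fintype.card K = 3 ^ (2 * m + 1)) :
    ∀ a ∈ Qr K m, ∀ b ∈ Qr K m, a * b = b * a := by
  intro a ha b hb
  obtain ⟨u, v, rfl⟩ := (mem_Qr_iff hK a).1 ha
  obtain ⟨u', v', rfl⟩ := (mem_Qr_iff hK b).1 hb
  rw [rmsub_qq hK, rmsub_qq hK, add_comm u, add_comm v]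

end Cfsg.Agent.Lib.Helper6.Rm
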