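import Cfsg.Agent.Lib.Helper6.Rm.Sub

set_option autoImplicit false

/-! # `Rm` mini-hive (S2343): leaves RM-TOR, RM-T0, RM-AR -/

namespace Cfsg.Agent.Lib.Helper6.Rm

open Cfsg Cfsg.Lie Cfsg.Agent.Lib.Helper36

section abstract

/-- RM-AR (Mathlib, arithmetic; `q = 3^(2m+1) ≡ 3 (mod 4)`). -/
theorem rm_arith (m : ℕ) :
    ((3 ^ (2 * m + 1) - 1) * 3 ^ (2 * m + 1)) % 4 = 2 ∧
    (3 ^ (2 * m + 1)) ^ 2 - 3 ^ (2 * m + 1) + 1 = (3 ^ (2 * m + 1) - 1) * 3 ^ (2 * m + 1) + 1 := by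
  have hq : 3 ^ (2 * m + 1) % 4 = 3 := by
    induction m with
    | zero => norm_num
    | succ n ih =>
      rw [show 2 * (n + 1) + 1 = (2 * n + 1) + 2 by ring, pow_add]
      omega
  obtain ⟨c, hc⟩ : ∃ c, 3 ^ (2 * m + 1) = 4 * c + 3 := ⟨3 ^ (2 * m + 1) / 4, by omega⟩
  rw [hc]
  constructor
  · have : (4 * c + 3 - 1) * (4 * c + 3) = 4 * (4 * c * c + 5 * c + 1) + 2 := by
      rw [show 4 * c + 3 - 1 = 4 * c + 2 by omega]; ring
    rw [this]; omega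
  · have h1 : (4 * c + 3) ^ 2 = (4 * c + 3 - 1) * (4 * c + 3) + (4 * c + 3) := by
      rw [show 4 * c + 3 - 1 = 4 * c + 2 by omega]; ring
    rw [h1]; omega

end abstract

section ree

variable {K : Type*} [Field K] [Fintype K] {m : ℕ}

/-- `h(s) x(0,0,v) h(s)⁻¹ = x(0,0,s v)`. -/
theorem rmtor_conj (hK : Fintype.card K = 3 ^ (2 * m + 1)) (s : Kˣ) (v : K) :
    (hg hK s : RG K m) * xg m (0, 0, v) * (hg hK s)⁻¹ = xg m (0, 0, (s : K) * v) := by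
  rw [hg_conj hK, torChi_11]
  simp only [mul_zero]

theorem rmtor_hg_inv (hK : Fintype.card K = 3 ^ (2 * m + 1)) (s : Kˣ) :
    (hg hK s : RG K m)⁻¹ = hg hK s⁻¹ := by
  apply inv_eq_of_mul_eq_one_right
  rw [← hg_mul, mul_inv_cancel, hg_one]

/-- `h(s)⁻¹ x(0,0,v) h(s) = x(0,0,s⁻¹ v)`. -/
theorem rmtor_conj' (hK : Fintype.card K = 3 ^ (2 * m + 1)) (s : Kˣ) (v : K) :
    (hg hK s : RG K m)⁻¹ * xg m (0, 0, v) * hg hK s = xg m (0, 0, ((s⁻¹ : Kˣ) : K) * v) := by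
  have h := rmtor_conj (m := m) hK s⁻¹ v
  rw [← rmtor_hg_inv hK s, inv_inv] at h
  exact h

theorem rmtor_z_inv (hK : Fintype.card K = 3 ^ (2 * m + 1)) (v : K) :
    (xg m (0, 0, v) : RG K m)⁻¹ = xg m (0, 0, -v) := by
  rw [rmsub_q_inv hK, neg_zero]

/-- RM-TOR: the torus data. -/
theorem torus_data (hK : Fintype.card K = 3 ^ (2 * m + 1)) :
    (∀ s : Kˣ, ∀ z ∈ Zr K m, (hg hK s : RG K m)⁻¹ * z * hg hK s ∈ Zr K m) ∧
    (∀ s s' : Kˣ, s ≠ s' → ∀ z' ∈ Zr K m, ∃ z ∈ Zr K m,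
      (hg hK s : RG K m)⁻¹ * z * hg hK s * ((hg hK s')⁻¹ * z * hg hK s')⁻¹ = z') := by
  constructor
  · intro s z hz
    obtain ⟨v, rfl⟩ := (mem_Zr_iff hK z).1 hz
    rw [rmtor_conj' hK]
    exact (mem_Zr_iff hK _).2 ⟨_, rfl⟩
  · intro s s' hss z' hz'
    obtain ⟨c, rfl⟩ := (mem_Zr_iff hK z').1 hz'
    have hne : ((s⁻¹ : Kˣ) : K) - ((s'⁻¹ : Kˣ) : K) ≠ 0 := by
      intro h
      apply hss
      have h1 : (s⁻¹ : Kˣ) = s'⁻¹ := Units.ext (sub_eq_zero.1 h)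
      exact inv_injective h1
    refine ⟨xg m (0, 0, c / (((s⁻¹ : Kˣ) : K) - ((s'⁻¹ : Kˣ) : K))), (mem_Zr_iff hK _).2 ⟨_, rfl⟩, ?_⟩
    rw [rmtor_conj' hK, rmtor_conj' hK, rmtor_z_inv hK, rmsub_qq hK]
    congr 1
    refine Prod.ext ?_ (Prod.ext ?_ ?_)
    · show (0 : K) = 0
      rfl
    · show (0 : K) + 0 = 0
      ring
    · show ((s⁻¹ : Kˣ) : K) * (c / (((s⁻¹ : Kˣ) : K) - ((s'⁻¹ : Kˣ) : K))) +
        -(((s'⁻¹ : Kˣ) : K) * (c / (((s⁻¹ : Kˣ) : K) - ((s'⁻¹ : Kˣ) : K)))) = c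
      field_simp
      ring

/-- RM-T0: the involution `t₀ = h(-1)`. -/
theorem t0_data (hK : Fintype.card K = 3 ^ (2 * m + 1)) :
    orderOf (hg hK (-1) : RG K m) = 2 ∧
    ((hg hK (-1) : RG K m) : GL chevG2.Idx K) ∈ chevG2.diagonalSubgroup K ∧
    ∀ z ∈ Zr K m, z * (hg hK (-1) : RG K m) * z⁻¹ = hg hK (-1) * z := by
  have := ree_charP hK
  have h3 : (3 : K) = 0 := by
    have := CharP.cast_eq_zero K 3
    exact_mod_cast this
  refine ⟨?_, reeHm_mem_diag _ _, ?_⟩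
  · apply orderOf_eq_prime
    · rw [pow_two, ← hg_mul, neg_one_mul, neg_neg, hg_one]
    · intro h
      have h1 : reeHm (3 ^ m) (-1 : Kˣ) = reeHm (3 ^ m) 1 := by
        have := congrArg Subtype.val h
        rw [coe_hg] at this
        rw [this, map_one]
        rfl
      exact ree_neg_one_ne_one hK (reeHm_injective _ h1)
  · intro z hz
    obtain ⟨v, rfl⟩ := (mem_Zr_iff hK z).1 hz
    have hc := rmtor_conj' (m := m) hK (-1) v
    -- `t₀⁻¹ z t₀ = x(0,0,-v)`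
    have hc' : (hg hK (-1) : RG K m)⁻¹ * xg m (0, 0, v) * hg hK (-1) = xg m (0, 0, -v) := by
      rw [hc]
      congr 2
      simp
    have h1 : (xg m (0, 0, v) : RG K m) * hg hK (-1) = hg hK (-1) * xg m (0, 0, -v) := by
      rw [← hc']; group
    rw [h1, mul_assoc, rmtor_z_inv hK, rmsub_qq hK]
    congr 2
    refine Prod.ext ?_ (Prod.ext ?_ ?_)
    · rfl
    · show (0 : K) + 0 = 0
      ring
    · show -v + -v = v
      linear_combination (-v) * h3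

end ree

end Cfsg.Agent.Lib.Helper6.Rm
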